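import Groth.Agent.QcMono49.Space
import Groth.Agent.AlgStLib.QuasiCompactImm
import Groth.Agent.AlgStLib.RedSubstack

/-!
# Monomorphisms of stacks with locally dense lifting are quasi-compact
-/

set_option autoImplicit false
set_option backward.isDefEq.respectTransparency false
set_option backward.isDefEq.respectTransparency.types false
set_option linter.unusedVariables false

universe u

open CategoryTheory CategoryTheory.Functor CategoryTheory.Limits Opposite AlgebraicGeometry AlgSp Topology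
  Groth.Agent.FibBase Groth.Agent.AlgSpLib Groth.Agent.AlgStLib

namespace Groth.Agent.QcMono49

variable {S : Scheme.{u}}

local notation "K₀" => Scheme.fppfPrecoverage

theorem spMapOfOver_overMap {U W : Over S} (w : W ⟶ U) :
    AlgSt.spMapOfOver (BasedFunctor.comp (AlgSt.toOverCat W) (AlgSt.overMap w)) = (yon S).map w := by
  rw [spMapOfOver_eq]
  apply ObjectProperty.hom_ext
  ext T x
  rfl

theorem mapOfOver_comp_spMap {U W : Over S} {F : Sp S} (Φ : AlgSt.ofSp F ⥤ᵇ FibCat.overCat U)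
    (Ψ : FibCat.overCat W ⥤ᵇ AlgSt.ofSp F) (w : W ⟶ U) (i : BasedFunctor.comp Ψ Φ ≅ AlgSt.overMap w) :
    mapOfOver Ψ ≫ AlgSt.spMapOfOver Φ = (yon S).map w := by
  show spHom (BasedFunctor.comp (AlgSt.toOverCat W) Ψ) ≫ _ = _
  rw [← spMapOfOver_comp, ← spMapOfOver_overMap w]
  exact spMapOfOver_congr (whiskerLeftIso (AlgSt.toOverCat W) i)

theorem repByAlgSpWith_isQuasiCompactMor
    (𝒳 𝒴 : AlgSt.Cat S) (h𝒳 : AlgSt.IsAlgStack K₀ 𝒳) (h𝒴 : AlgSt.IsAlgStack K₀ 𝒴)
    (hnoeth : AlgSt.SmoothLocally (fun X => IsLocallyNoetherian X) 𝒳) (f : 𝒴 ⥤ᵇ 𝒳)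
    (hrep : AlgSt.RepByAlgSp1 f) (hlfp : AlgSt.RepByAlgSpWith (LocP @LocallyOfFinitePresentation) f)
    (ha : AlgSt.IsMono f)
    (hc : ∀ (A : Type u) [CommRing A] [IsDomain A] (sA : Spec (CommRingCat.of A) ⟶ S)
      (a : FibCat.overCat (Over.mk sA) ⥤ᵇ 𝒳) (D : Set ↥(Spec (CommRingCat.of A))), Dense D →
      (∀ p ∈ D, ∃ yp : FibCat.overCat (Over.mk ((Spec (CommRingCat.of A)).fromSpecResidueField p ≫ sA)) ⥤ᵇ 𝒴,
          Nonempty (BasedFunctor.comp yp f ≅ BasedFunctor.comp (AlgSt.overMap (Over.homMk ((Spec (CommRingCat.of A)).fromSpecResidueField p) rfl : Over.mk (((Spec (CommRingCat.of A)).fromSpecResidueField p) ≫ sA) ⟶ Over.mk sA)) a)) →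
      ∃ U : (Spec (CommRingCat.of A)).Opens, (U : Set ↥(Spec (CommRingCat.of A))).Nonempty ∧
        ∃ yU : FibCat.overCat (Over.mk (U.ι ≫ sA)) ⥤ᵇ 𝒴,
          Nonempty (BasedFunctor.comp yU f ≅ BasedFunctor.comp (AlgSt.overMap (Over.homMk (U.ι) rfl : Over.mk ((U.ι) ≫ sA) ⟶ Over.mk sA)) a)) :
    AlgSt.RepByAlgSpWith IsQuasiCompactMor f := by
  obtain ⟨V, y, hy, hy'⟩ := id h𝒳.atlas
  have : IsLocallyNoetherian V.left := hnoeth V y hy
  obtain ⟨F, e, he⟩ := hrep V y
  let Φ := BasedFunctor.comp e (FibCat.fpFst y f)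
  let b : F.obj ⟶ (yon S).obj V := AlgSt.spMapOfOver Φ
  have : Mono b := isMono_property ha y e he
  have hb : LocP @LocallyOfFinitePresentation b :=
    (RepOver.property_of_stableBC stableBC_locP (hlfp V y) e he).2
  have hd : DenseLift b := by
    intro A _ _ k D hD hlift
    let sA : Spec (CommRingCat.of A) ⟶ S := k ≫ V.hom
    let k' : Over.mk sA ⟶ V := Over.homMk k rfl
    obtain ⟨U, hU, yU, ⟨iU⟩⟩ := hc A sA (BasedFunctor.comp (AlgSt.overMap k') y) D hD fun p hp => by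
      obtain ⟨s, hs⟩ := hlift p hp
      let ι' : Over.mk ((Spec (CommRingCat.of A)).fromSpecResidueField p ≫ sA) ⟶ Over.mk sA :=
        Over.homMk ((Spec (CommRingCat.of A)).fromSpecResidueField p) rfl
      obtain ⟨i⟩ := RedSub.overOfMap_comp_iso s Φ (ι' ≫ k')
        ((congrArg (yon S).map (Over.OverMorphism.ext rfl)).trans hs.symm)
      exact ⟨BasedFunctor.comp (BasedFunctor.comp (overOfMap s) e) (FibCat.fpSnd y f),
        ⟨(whiskerLeftIso (BasedFunctor.comp (overOfMap s) e) (FibCat.fpIso y f)).symm ≪≫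
          whiskerRightIso i y ≪≫ whiskerRightIso (overMapCompIso ι' k').symm y⟩⟩
    refine ⟨U, hU, ?_⟩
    let ι' : Over.mk (U.ι ≫ sA) ⟶ Over.mk sA := Over.homMk U.ι rfl
    let L : FibCat.overCat (Over.mk (U.ι ≫ sA)) ⥤ᵇ FibCat.fp y f :=
      FibCat.fpLift (AlgSt.overMap (ι' ≫ k')) yU (whiskerRightIso (overMapCompIso ι' k').symm y ≪≫ iU.symm)
    obtain ⟨G, -, -, ⟨j⟩⟩ := isEquivOver_inv he
    refine ⟨mapOfOver (BasedFunctor.comp L G), ?_⟩
    refine (mapOfOver_comp_spMap Φ (BasedFunctor.comp L G) (ι' ≫ k')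
      (whiskerRightIso (whiskerLeftIso L j) (FibCat.fpFst y f))).trans ?_
    exact congrArg (yon S).map (Over.OverMorphism.ext rfl)
  have hq : IsQuasiCompactMor b := isQuasiCompactMor F.property b hb hd
  exact repByAlgSpWith_of_locEssSurj stableBC_isQuasiCompactMor
    (isLocalOnBase_fppf_of_fpqc isLocalOnBase_fpqc_isQuasiCompactMor) hrep (locEssSurj_of_atlas hy hy')
    ((repByAlgSpWith_iff_of_square (f := FibCat.fpFst y f)
      (f' := AlgSt.ofSpMap b) (a := e) (b := AlgSt.toOverCat V) he (isEquivOver_toOverCat V)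
      (isoSpMapOfOver Φ).symm).2
      (repByAlgSpWith_ofSpMap stableBC_isQuasiCompactMor F.property (IsAlgSpace.yon_obj V) b hq))

end Groth.Agent.QcMono49
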