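import Groth.Agent.AlgSpPts.Misc
import Groth.Agent.AlgSpPts.Descent
import Groth.Agent.QuotLib.Descend
import Groth.Agent.AssLib.FlatField
import Groth.Agent.AlgStLib.Stack
import Groth.Agent.AlgStLib.Imm
import Mathlib.AlgebraicGeometry.Morphisms.QuasiSeparated
import Mathlib.RingTheory.Noetherian.Basic

/-!
# Monomorphisms of finite presentation with locally dense lifting are quasi-compact
-/

set_option autoImplicit false
set_option backward.isDefEq.respectTransparency false
set_option backward.isDefEq.respectTransparency.types false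
set_option linter.unusedVariables false

universe u

open CategoryTheory CategoryTheory.Limits Opposite AlgebraicGeometry AlgSp Groth.Agent.AlgSpLib Topology
  Groth.Agent.AlgStLib

namespace Groth.Agent.QcMono49

variable {S : Scheme.{u}} {F : Sp S} {V : Over S}

theorem app_injective {G : Sp S} (a : F ⟶ G) [Mono a] (T : Over S) : Function.Injective (a.hom.app (op T)) :=
  fun x y h => by
    obtain ⟨g, rfl⟩ := (J S).uliftYonedaEquiv.{u + 1}.surjective x
    obtain ⟨g', rfl⟩ := (J S).uliftYonedaEquiv.{u + 1}.surjective y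
    rw [← GrothendieckTopology.uliftYonedaEquiv_comp, ← GrothendieckTopology.uliftYonedaEquiv_comp] at h
    rw [(cancel_mono a).1 ((J S).uliftYonedaEquiv.{u + 1}.injective h)]

theorem injective_map_of_mono {G : Sp S} (a : F ⟶ G) [Mono a] : Function.Injective (Points.map a) := by
  intro x y h
  induction x using Points.ind with
  | h p =>
    induction y using Points.ind with
    | h q =>
      obtain ⟨Ω, _, w, c, d, hcd⟩ := Points.mk_eq_mk_iff.1 h
      refine Points.sound ⟨Ω, inferInstance, w, c, d, app_injective a _ ?_⟩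
      rw [NatTrans.naturality_apply, NatTrans.naturality_apply]
      exact hcd

/-- A field point in the image of a monomorphism locally of finite presentation lifts. -/
theorem exists_lift_point (hF : IsAlgSpace F) (a : F ⟶ (yon S).obj V) [Mono a]
    (hlfp : LocP @LocallyOfFinitePresentation a) {K : Type u} [Field K] {str : Spec (CommRingCat.of K) ⟶ S}
    (q : Over.mk str ⟶ V) (hq : q.left (IsLocalRing.closedPoint K) ∈
      Points.toScheme V '' Set.range (Points.map a)) :
    ∃ s : (yon S).obj (Over.mk str) ⟶ F, s ≫ a = (yon S).map q := by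
  obtain ⟨_, ⟨x, rfl⟩, hx⟩ := hq
  obtain ⟨T, p, hp, hps⟩ := hF.atlas
  obtain ⟨t, rfl⟩ := surjective_ofPt hps x
  obtain ⟨c, hc⟩ := (yon S).map_surjective (p ≫ a)
  rw [Points.map_ofPt, ← hc, Points.toScheme_ofPt] at hx
  have hcl : LocallyOfFinitePresentation c.left := QuotLib.locP_left (R := @LocallyOfFinitePresentation) c
    (hc ▸ locP_comp (IsAlgSpace.yon_obj T) hF (IsAlgSpace.yon_obj V)
      (locP_mono (Q := @LocallyOfFinitePresentation)
        (fun _ _ f (_ : Etale f) => inferInstanceAs (LocallyOfFinitePresentation f))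
        (locP_of_repWith hp)) hlfp)
  let W : Over S := Over.mk (pullback.snd c.left q.left ≫ str)
  let g : W ⟶ Over.mk str := Over.homMk (pullback.snd c.left q.left) rfl
  let r : W ⟶ T := Over.homMk (pullback.fst c.left q.left) (by
    show _ ≫ T.hom = _ ≫ str
    rw [← Over.w c, ← Category.assoc, pullback.condition, Category.assoc, Over.w q]
    rfl)
  have hrg : r ≫ c = g ≫ q := Over.OverMorphism.ext pullback.condition
  obtain ⟨w, -, -⟩ := Scheme.Pullback.exists_preimage_pullback (f := c.left) (g := q.left) t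
    (IsLocalRing.closedPoint K) hx
  have hfl : Flat g.left := AssLib.flat_over_field (k := K) (pullback.snd c.left q.left)
  have hgp : fppf g.left := ⟨⟨⟨fun z => ⟨w, Subsingleton.elim (α := PrimeSpectrum K) _ _⟩⟩, hfl⟩,
    inferInstanceAs (LocallyOfFinitePresentation (pullback.snd c.left q.left))⟩
  let σ : (yon S).obj W ⟶ F := (yon S).map r ≫ p
  have hσ : σ ≫ a = (yon S).map (g ≫ q) := by
    rw [← hrg, Functor.map_comp, hc, Category.assoc]
  let σ₀ : F.obj.obj (op W) := (J S).uliftYonedaEquiv.{u + 1} σ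
  have hσ₀ : a.hom.app (op W) σ₀ = ((yon S).obj V).obj.map g.op ⟨q⟩ := by
    rw [← GrothendieckTopology.uliftYonedaEquiv_comp, hσ]
    show (⟨(𝟙 W : W ⟶ W) ≫ g ≫ q⟩ : ULift (W ⟶ V)) = ⟨g ≫ q⟩
    rw [Category.id_comp]
  have hFs := QuotLib.isSheafFor_singleton_fppf F g hgp
  have hVs := QuotLib.isSheafFor_singleton_fppf ((yon S).obj V) g hgp
  obtain ⟨s, hs, -⟩ := Presieve.isSheafFor_singleton.1 hFs σ₀ fun {Z} p₁ p₂ h12 => app_injective a _ (by
    rw [NatTrans.naturality_apply, NatTrans.naturality_apply, hσ₀]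
    exact congrArg ULift.up (by
      show p₁ ≫ g ≫ q = p₂ ≫ g ≫ q
      rw [← Category.assoc, h12, Category.assoc]))
  refine ⟨(J S).uliftYonedaEquiv.{u + 1}.symm s, (J S).uliftYonedaEquiv.{u + 1}.injective ?_⟩
  rw [GrothendieckTopology.uliftYonedaEquiv_comp, Equiv.apply_symm_apply]
  refine hVs.isSeparatedFor.ext fun Z f hf => ?_
  cases hf
  rw [← NatTrans.naturality_apply, hs, hσ₀]
  exact congrArg (((yon S).obj V).obj.map g.op) (congrArg ULift.up (Category.id_comp q).symm)

/-- The preimage of a set of points of the target. -/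
abbrev pre (a : F ⟶ (yon S).obj V) (C : Set ↥V.left) : Set (Points F) :=
  {x | Points.toScheme V (Points.map a x) ∈ C}

/-- Locally dense lifting for a monomorphism to a scheme. -/
def DenseLift (a : F ⟶ (yon S).obj V) : Prop :=
  ∀ (A : Type u) [CommRing A] [IsDomain A] (k : Spec (CommRingCat.of A) ⟶ V.left)
    (D : Set ↥(Spec (CommRingCat.of A))), Dense D →
    (∀ p ∈ D, ∃ s : (yon S).obj (Over.mk ((Spec (CommRingCat.of A)).fromSpecResidueField p ≫ k ≫ V.hom)) ⟶ F,
      s ≫ a = (yon S).map (Over.homMk ((Spec (CommRingCat.of A)).fromSpecResidueField p ≫ k) (by simp))) →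
    ∃ U : (Spec (CommRingCat.of A)).Opens, (U : Set ↥(Spec (CommRingCat.of A))).Nonempty ∧
      ∃ s : (yon S).obj (Over.mk (U.ι ≫ k ≫ V.hom)) ⟶ F, s ≫ a = (yon S).map (Over.homMk (U.ι ≫ k) (by simp))

theorem isCompact_pre (hF : IsAlgSpace F) (a : F ⟶ (yon S).obj V) [Mono a]
    (hlfp : LocP @LocallyOfFinitePresentation a) (hd : DenseLift a) [IsLocallyNoetherian V.left]
    {O : V.left.Opens} (hO : IsAffineOpen O) (I : Ideal Γ(V.left, O)) :
    IsCompact (pre a (hO.fromSpec '' PrimeSpectrum.zeroLocus (I : Set Γ(V.left, O)))) := by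
  have : IsNoetherianRing Γ(V.left, O) := IsLocallyNoetherian.component_noetherian ⟨O, hO⟩
  induction I using WellFoundedGT.induction with
  | _ I ih =>
    let pI : Set Γ(V.left, O) → Set (Points F) := fun T => pre a (hO.fromSpec '' PrimeSpectrum.zeroLocus T)
    have hgt : ∀ x, x ∉ I → I < I ⊔ Ideal.span {x} := fun x hx =>
      lt_of_le_of_ne le_sup_left fun h => hx (h ▸ Ideal.mem_sup_right (Ideal.mem_span_singleton_self x))
    have hz : ∀ x, PrimeSpectrum.zeroLocus ((I ⊔ Ideal.span {x} : Ideal _) : Set Γ(V.left, O)) =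
        PrimeSpectrum.zeroLocus (I : Set Γ(V.left, O)) ∩ PrimeSpectrum.zeroLocus {x} := fun x => by
      rw [PrimeSpectrum.zeroLocus_sup, PrimeSpectrum.zeroLocus_span]
    by_cases htop : I = ⊤
    · subst htop
      convert isCompact_empty
      ext x
      simp
    by_cases hpr : I.IsPrime
    swap
    · obtain ⟨x, hx, y, hy, hxy⟩ := (Ideal.not_isPrime_iff.1 hpr).resolve_left htop
      have e : pI (I : Set Γ(V.left, O)) =
          pI ((I ⊔ Ideal.span {x} : Ideal _) : Set Γ(V.left, O)) ∪
            pI ((I ⊔ Ideal.span {y} : Ideal _) : Set Γ(V.left, O)) := by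
        simp only [pI, pre, hz]
        rw [← Set.setOf_or]
        ext z
        simp only [Set.mem_setOf_eq]
        constructor
        · rintro ⟨q, hq, e⟩
          rcases q.2.mem_or_mem (hq hxy) with h | h
          · exact Or.inl ⟨q, ⟨hq, Set.singleton_subset_iff.2 h⟩, e⟩
          · exact Or.inr ⟨q, ⟨hq, Set.singleton_subset_iff.2 h⟩, e⟩
        · rintro (⟨q, hq, e⟩ | ⟨q, hq, e⟩) <;> exact ⟨q, hq.1, e⟩
      show IsCompact (pI (I : Set Γ(V.left, O)))
      rw [e]
      exact (ih _ (hgt x hx)).union (ih _ (hgt y hy))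
    let A : Type u := Γ(V.left, O) ⧸ I
    let π : CommRingCat.of Γ(V.left, O) ⟶ CommRingCat.of A := CommRingCat.ofHom (Ideal.Quotient.mk I)
    let k : Spec (CommRingCat.of A) ⟶ V.left := Spec.map π ≫ hO.fromSpec
    have hπ : ∀ q : PrimeSpectrum Γ(V.left, O), q ∈ PrimeSpectrum.zeroLocus (I : Set Γ(V.left, O)) →
        ∃ p : PrimeSpectrum A, Spec.map π p = q := fun q hq => by
      have h : q ∈ Set.range (PrimeSpectrum.comap (Ideal.Quotient.mk I)) := by
        rw [range_comap_of_surjective _ _ Ideal.Quotient.mk_surjective, Ideal.mk_ker]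
        exact hq
      exact h
    let D : Set ↥(Spec (CommRingCat.of A)) := {p | k p ∈ Points.toScheme V '' Set.range (Points.map a)}
    -- cutting off a basic open
    have cut : ∀ f : Γ(V.left, O), f ∉ I → ∀ K : Set (Points F), IsCompact K →
        (∀ x, ∀ p : PrimeSpectrum A, Ideal.Quotient.mk I f ∉ p.asIdeal →
          Points.toScheme V (Points.map a x) = k p → x ∈ K) →
        K ⊆ pI (I : Set Γ(V.left, O)) → IsCompact (pI (I : Set Γ(V.left, O))) := by
      intro f hf K hK hmem hsub
      have e : pI (I : Set Γ(V.left, O)) = K ∪ pI ((I ⊔ Ideal.span {f} : Ideal _) : Set Γ(V.left, O)) := by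
        refine Set.Subset.antisymm ?_ (Set.union_subset hsub ?_)
        · rintro x ⟨q, hq, e⟩
          by_cases hfq : f ∈ q.asIdeal
          · exact Or.inr ⟨q, by rw [hz]; exact ⟨hq, Set.singleton_subset_iff.2 hfq⟩, e⟩
          · obtain ⟨p, rfl⟩ := hπ q hq
            refine Or.inl (hmem x p hfq ?_)
            rw [← e]
            exact (Scheme.Hom.comp_apply (Spec.map π) hO.fromSpec p).symm
        · rintro x ⟨q, hq, e⟩
          rw [hz] at hq
          exact ⟨q, hq.1, e⟩
      rw [e]
      exact hK.union (ih _ (hgt f hf))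
    have hbasic : ∀ U : (Spec (CommRingCat.of A)).Opens, (U : Set ↥(Spec (CommRingCat.of A))).Nonempty →
        ∃ f : Γ(V.left, O), f ∉ I ∧ ∀ p : PrimeSpectrum A, Ideal.Quotient.mk I f ∉ p.asIdeal → p ∈ U := by
      rintro U ⟨p, hp⟩
      obtain ⟨_, ⟨g, rfl⟩, hpg, hgU⟩ :=
        PrimeSpectrum.isTopologicalBasis_basic_opens.exists_subset_of_mem_open (show p ∈ (U : Set _) from hp) U.2
      obtain ⟨f, rfl⟩ := Ideal.Quotient.mk_surjective g
      exact ⟨f, fun h => hpg (by simp [Ideal.Quotient.eq_zero_iff_mem.2 h]), fun q hq => hgU hq⟩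
    have : IsDomain A := Ideal.Quotient.isDomain I
    by_cases hD : Dense D
    · obtain ⟨U, hU, s, hs⟩ := hd A k D hD fun p hp => exists_lift_point hF a hlfp _ (by
        show ((Spec (CommRingCat.of A)).fromSpecResidueField p ≫ k) (IsLocalRing.closedPoint _) ∈ _
        rw [Scheme.Hom.comp_apply, Scheme.fromSpecResidueField_apply]
        exact hp)
      obtain ⟨f, hf, hfU⟩ := hbasic U hU
      let E : Set ↥U.toScheme := U.ι ⁻¹' (PrimeSpectrum.basicOpen (Ideal.Quotient.mk I f) : Set (PrimeSpectrum A))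
      have hE : IsCompact E := U.ι.isOpenEmbedding.isInducing.isCompact_preimage'
        (PrimeSpectrum.isCompact_basicOpen _) fun p hp => by
          rw [Scheme.Opens.range_ι]
          exact hfU p hp
      have hsE : ∀ v, Points.toScheme V (Points.map a (Points.ofPt s v)) = k (U.ι v) := fun v => by
        rw [Points.map_ofPt, hs, Points.toScheme_ofPt]
        exact Scheme.Hom.comp_apply _ _ v
      refine cut f hf (Points.ofPt s '' E) (hE.image (Points.continuous_ofPt s)) (fun x p hp e => ?_) ?_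
      · refine ⟨⟨p, hfU p hp⟩, hp, injective_map_of_mono a ((Points.schemeEquiv V).symm.injective ?_)⟩
        exact (hsE _).trans e.symm
      · rintro _ ⟨v, -, rfl⟩
        refine ⟨Spec.map π (U.ι v), ?_, ?_⟩
        · intro i hi
          show Ideal.Quotient.mk I i ∈ (U.ι v).asIdeal
          rw [Ideal.Quotient.eq_zero_iff_mem.2 hi]
          exact Submodule.zero_mem _
        · rw [hsE]
          exact (Scheme.Hom.comp_apply _ _ _).symm
    · rw [dense_iff_inter_open] at hD
      push_neg at hD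
      obtain ⟨W, hW, hWne, hWD⟩ := hD
      obtain ⟨f, hf, hfW⟩ := hbasic ⟨W, hW⟩ hWne
      refine cut f hf ∅ isCompact_empty (fun x p hp e => ?_) (Set.empty_subset _)
      exact absurd (⟨Points.map a x, ⟨x, rfl⟩, e⟩ : p ∈ D)
        fun h => Set.eq_empty_iff_forall_notMem.1 hWD p ⟨hfW p hp, h⟩

/-- A monomorphism to a locally Noetherian scheme with locally dense lifting is quasi-compact. -/
theorem isQuasiCompactMor (hF : IsAlgSpace F) (a : F ⟶ (yon S).obj V) [Mono a]
    (hlfp : LocP @LocallyOfFinitePresentation a) (hd : DenseLift a) [IsLocallyNoetherian V.left] :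
    IsQuasiCompactMor a := by
  obtain ⟨T, p, hp, hps⟩ := hF.atlas
  obtain ⟨c, hc⟩ := (yon S).map_surjective (p ≫ a)
  refine AlgSpPts.isQuasiCompactMor_of_affine hF (IsAlgSpace.yon_obj V) fun Z hZ g P fst snd sq => ?_
  have hP : IsAlgSpace P := isAlgSpace_of_isPullback sq hF (IsAlgSpace.yon_obj Z) (IsAlgSpace.yon_obj V)
  refine (AlgSpPts.isQuasiCompactSp_iff hP).2 ⟨?_⟩
  obtain ⟨g₀, rfl⟩ := (yon S).map_surjective g
  have : CompactSpace ↥Z.left := inferInstance
  have hcov : ∀ z : Z.left, ∃ O : V.left.affineOpens, g₀.left z ∈ O.1 := fun z => by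
    obtain ⟨W, hW, hz, -⟩ := exists_isAffineOpen_mem_and_subset (U := (⊤ : V.left.Opens)) (x := g₀.left z) trivial
    exact ⟨⟨W, hW⟩, hz⟩
  choose O hO using hcov
  obtain ⟨t, ht⟩ := isCompact_univ.elim_finite_subcover (fun z => g₀.left ⁻¹' (O z).1.1)
    (fun z => (O z).1.isOpen.preimage g₀.left.continuous) fun z _ => Set.mem_iUnion.2 ⟨z, hO z⟩
  let C : Set ↥V.left := ⋃ z ∈ t, ((O z).1 : Set ↥V.left)
  have hC : IsCompact (pre a C) := by
    have : pre a C = ⋃ z ∈ t, pre a ((O z).1 : Set ↥V.left) := by ext x; simp [C, pre]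
    rw [this]
    refine t.isCompact_biUnion fun z _ => ?_
    have h := isCompact_pre hF a hlfp hd (O z).2 ⊥
    rwa [show PrimeSpectrum.zeroLocus ((⊥ : Ideal Γ(V.left, (O z).1)) : Set Γ(V.left, (O z).1)) = Set.univ from
      PrimeSpectrum.zeroLocus_bot, Set.image_univ, (O z).2.range_fromSpec] at h
  -- a quasi-compact piece of the atlas
  have hcovT : ∀ x : Points F, ∃ W : T.left.affineOpens, x ∈ Points.ofPt p '' (W : Set ↥T.left) := fun x => by
    obtain ⟨u, rfl⟩ := surjective_ofPt hps x
    obtain ⟨W, hW, hu, -⟩ := exists_isAffineOpen_mem_and_subset (U := (⊤ : T.left.Opens)) (x := u) trivial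
    exact ⟨⟨W, hW⟩, u, hu, rfl⟩
  choose W hW using hcovT
  obtain ⟨t', ht'⟩ := hC.elim_finite_subcover (fun x => Points.ofPt p '' (W x : Set ↥T.left))
    (fun x => isOpenMap_ofPt hp _ (W x).1.isOpen) fun x _ => Set.mem_iUnion.2 ⟨x, hW x⟩
  let O' : T.left.Opens := ⨆ x ∈ t', (W x).1
  have hO' : CompactSpace ↥O'.toScheme := isCompact_iff_compactSpace.1 (by
    simp only [O', TopologicalSpace.Opens.coe_iSup]
    exact t'.isCompact_biUnion fun x _ => (W x).2.isCompact)
  let o : Over.mk (O'.ι ≫ T.hom) ⟶ T := Over.homMk O'.ι rfl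
  have : CompactSpace ↥(Over.mk (O'.ι ≫ T.hom)).left := hO'
  have : QuasiCompact (o ≫ c).left := quasiCompact_of_compactSpace _
  let R : Over S := Over.mk (pullback.snd (o ≫ c).left g₀.left ≫ Z.hom)
  let r₁ : R ⟶ Over.mk (O'.ι ≫ T.hom) := Over.homMk (pullback.fst (o ≫ c).left g₀.left) (by
    show pullback.fst _ _ ≫ O'.ι ≫ T.hom = pullback.snd _ _ ≫ Z.hom
    rw [← Over.w g₀, ← Category.assoc (pullback.snd _ _), ← pullback.condition, Category.assoc]
    exact congrArg (pullback.fst _ _ ≫ ·) (Over.w (o ≫ c)).symm)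
  let r₂ : R ⟶ Z := Over.homMk (pullback.snd (o ≫ c).left g₀.left) rfl
  have hr : r₁ ≫ o ≫ c = r₂ ≫ g₀ := Over.OverMorphism.ext pullback.condition
  let r : (yon S).obj R ⟶ P := sq.lift ((yon S).map (r₁ ≫ o) ≫ p) ((yon S).map r₂) (by
    rw [Category.assoc, ← hc, ← Functor.map_comp, ← Functor.map_comp, Category.assoc, hr])
  have : CompactSpace ↥R.left := QuasiCompact.compactSpace_of_compactSpace (pullback.snd (o ≫ c).left g₀.left)
  suffices hsurj : Function.Surjective (Points.ofPt r) by
    rw [← hsurj.range_eq]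
    exact isCompact_range (Points.continuous_ofPt r)
  intro y
  have : Mono snd := PullbackCone.mono_snd_of_is_pullback_of_mono sq.isLimit
  let z := Points.toScheme Z (Points.map snd y)
  have hxz : Points.toScheme V (Points.map a (Points.map fst y)) = g₀.left z := by
    rw [← Points.map_comp, sq.w, Points.map_comp, ← Points.toScheme_ofPt g₀ z]
    congr 1
    rw [Points.ofPt_eq_map_ofScheme, Points.ofScheme_toScheme]
  have hx : Points.map fst y ∈ pre a C := by
    obtain ⟨z', hz', hzz⟩ := Set.mem_iUnion₂.1 (ht (Set.mem_univ z))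
    refine Set.mem_iUnion₂.2 ⟨z', hz', ?_⟩
    rw [hxz]
    exact hzz
  obtain ⟨x', hx', u, hu, hux⟩ := Set.mem_iUnion₂.1 (ht' hx)
  have huO : u ∈ O' := (le_iSup₂ (f := fun x (_ : x ∈ t') => (W x).1) x' hx') hu
  have hcu : c.left u = g₀.left z := by
    rw [← hxz, ← hux, Points.map_ofPt, ← hc, Points.toScheme_ofPt]
  obtain ⟨w, hw₁, hw₂⟩ := Scheme.Pullback.exists_preimage_pullback (f := (o ≫ c).left) (g := g₀.left)
    (⟨u, huO⟩ : ↥O'.toScheme) z ((Scheme.Hom.comp_apply _ _ _).trans hcu)
  refine ⟨w, injective_map_of_mono snd ((Points.schemeEquiv Z).symm.injective ?_)⟩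
  show Points.toScheme Z (Points.map snd (Points.ofPt r w)) = z
  rw [Points.map_ofPt, sq.lift_snd, Points.toScheme_ofPt]
  exact hw₂

end Groth.Agent.QcMono49
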